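import Mathlib.RingTheory.PowerSeries.Order
import Mathlib.RingTheory.PowerSeries.Inverse
import Mathlib.LinearAlgebra.Dimension.Constructions

/-! Closed subalgebras of `k[[t]]` and their semigroups of orders. -/

set_option autoImplicit false
universe u

open PowerSeries

namespace ValSemiLib

variable {k : Type u} [Field k] (A : Subalgebra k (PowerSeries k))

theorem exists_improve (Γ : Set ℕ) (hΓ : ∀ n : ℕ, n ∈ Γ ↔ ∃ f ∈ A, order f = n) {m : ℕ} (hm : m ∈ Γ)
    (f : PowerSeries k) (hf : (m : ℕ∞) ≤ order f) :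
    ∃ g ∈ A, (m : ℕ∞) ≤ order g ∧ ((m + 1 : ℕ) : ℕ∞) ≤ order (f - g) := by
  obtain ⟨h, hhA, hh⟩ := (hΓ m).mp hm
  have hne : coeff m h ≠ 0 := ((order_eq_nat).mp hh).1
  let a := coeff m f / coeff m h
  refine ⟨a • h, A.smul_mem hhA a, ?_, ?_⟩
  · refine nat_le_order _ m fun i hi => ?_
    rw [coeff_smul, coeff_of_lt_order i (by rw [hh]; exact_mod_cast hi), smul_zero]
  · refine nat_le_order _ (m + 1) fun i hi => ?_
    rcases Nat.lt_succ_iff_lt_or_eq.mp hi with hi | hi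
    · rw [map_sub, coeff_smul, coeff_of_lt_order i (lt_of_lt_of_le (by exact_mod_cast hi) hf),
        coeff_of_lt_order i (by rw [hh]; exact_mod_cast hi), smul_zero, sub_zero]
    · subst hi
      rw [map_sub, coeff_smul, smul_eq_mul, div_mul_cancel₀ _ hne, sub_self]

theorem mem_of_order_ge (hcl : ∀ f : PowerSeries k, (∀ n : ℕ, ∃ g ∈ A, (n : ℕ∞) ≤ order (f - g)) → f ∈ A)
    (Γ : Set ℕ) (hΓ : ∀ n : ℕ, n ∈ Γ ↔ ∃ f ∈ A, order f = n) (c : ℕ) (hc : ∀ n : ℕ, c ≤ n → n ∈ Γ)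
    (f : PowerSeries k) (hf : (c : ℕ∞) ≤ order f) : f ∈ A := by
  have key : ∀ j : ℕ, ∃ g ∈ A, ((c + j : ℕ) : ℕ∞) ≤ order (f - g) := by
    intro j
    induction j with
    | zero => exact ⟨0, zero_mem A, by rwa [sub_zero, add_zero]⟩
    | succ j ih =>
      obtain ⟨g, hg, hord⟩ := ih
      obtain ⟨g', hg', -, hord'⟩ := exists_improve A Γ hΓ (hc (c + j) (Nat.le_add_right c j)) (f - g) hord
      exact ⟨g + g', add_mem hg hg', by rw [← sub_sub]; exact hord'⟩
  refine hcl f fun n => ?_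
  obtain ⟨g, hg, hord⟩ := key n
  exact ⟨g, hg, le_trans (by exact_mod_cast Nat.le_add_left n c) hord⟩

theorem exists_bound (hA : Module.Finite ↥A (PowerSeries k))
    (hbir : ∀ f : PowerSeries k, ∃ a ∈ A, a ≠ 0 ∧ a * f ∈ A)
    (Γ : Set ℕ) (hΓ : ∀ n : ℕ, n ∈ Γ ↔ ∃ f ∈ A, order f = n) : ∃ c : ℕ, ∀ n : ℕ, c ≤ n → n ∈ Γ := by
  classical
  obtain ⟨s, hs⟩ := Module.finite_def.mp hA
  choose a haA ha0 haf using hbir
  let b := ∏ g ∈ s, a g
  have hbA : b ∈ A := prod_mem fun g _ => haA g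
  have hb0 : b ≠ 0 := Finset.prod_ne_zero_iff.mpr fun g _ => ha0 g
  have hmul : ∀ f : PowerSeries k, b * f ∈ A := by
    intro f
    have hf : f ∈ Submodule.span ↥A (s : Set (PowerSeries k)) := hs ▸ trivial
    induction hf using Submodule.span_induction with
    | mem g hg =>
      rw [show b = (∏ x ∈ s.erase g, a x) * a g from (Finset.prod_erase_mul _ _ hg).symm, mul_assoc]
      exact mul_mem (prod_mem fun x _ => haA x) (haf g)
    | zero => rw [mul_zero]; exact zero_mem A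
    | add u v _ _ hu hv => rw [mul_add]; exact add_mem hu hv
    | smul r u _ hu =>
      rw [Algebra.smul_def, mul_left_comm]
      exact mul_mem r.2 hu
  obtain ⟨o, ho⟩ := ENat.ne_top_iff_exists.mp (show order b ≠ ⊤ from fun h => hb0 (order_eq_top.mp h))
  refine ⟨o, fun n hn => (hΓ n).mpr ⟨b * X ^ (n - o), hmul _, ?_⟩⟩
  rw [order_mul, order_X_pow, ← ho]
  exact_mod_cast Nat.add_sub_cancel' hn

end ValSemiLib
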